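/-
helper88, project S4125 (helper75, q-Baer groups), module [C11]: in the core case `|V| = q²`
forces `X` solvable (Kegel–Wielandt S0564 + [STAB-AB] + [C2]).
-/
import Mathlib
import Cfsg.Agent.Lib.Helper75.QBaer.Defs
import Cfsg.Agent.Lib.Helper65.QBaerStabAb
import Cfsg.Agent.S0564

set_option autoImplicit false

namespace Cfsg.Agent.Lib.Helper88.QBaerC11

open Cfsg.Agent.Lib.Helper75.QBaer

variable {q : ℕ} {X V : Type*} [Group X] [Finite X] [CommGroup V] [Finite V]
  [MulDistribMulAction X V]

/-- [C11] `|V| = q²` implies `X` solvable. -/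
theorem solvable_of_card_sq (h : CoreHyp q X V) (S : Sylow 2 X) (hcard : Nat.card V = q ^ 2) :
    Group.IsSolvable X := by
  have hq := h.hq
  haveI : Fact q.Prime := ⟨hq⟩
  haveI : Fact (Nat.Prime 2) := ⟨Nat.prime_two⟩
  have hnt : Nontrivial V := by
    rw [← Finite.one_lt_card_iff_nontrivial, hcard]
    exact Nat.one_lt_pow (by norm_num) hq.one_lt
  obtain ⟨v, hv⟩ := exists_ne (1 : V)
  have hL : ∀ g : MulAction.stabilizer X v, ∀ w ∈ Subgroup.zpowers v, g • w = w := by
    rintro ⟨g, hg⟩ w hw
    obtain ⟨i, rfl⟩ := Subgroup.mem_zpowers_iff.mp hw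
    show g • (v ^ i) = v ^ i
    rw [smul_zpow', MulAction.mem_stabilizer_iff.mp hg]
  have hcyc : IsCyclic (V ⧸ Subgroup.zpowers v) := by
    have h1 : Nat.card (V ⧸ Subgroup.zpowers v) * Nat.card (Subgroup.zpowers v) = q ^ 2 := by
      rw [← hcard]; exact (Subgroup.card_eq_card_quotient_mul_card_subgroup _).symm
    have h2 : Nat.card (Subgroup.zpowers v) ≠ 1 := by
      intro hc
      apply hv
      have hb : Subgroup.zpowers v = ⊥ := Subgroup.card_eq_one.mp hc
      have hvL : v ∈ Subgroup.zpowers v := Subgroup.mem_zpowers v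
      rw [hb] at hvL; exact Subgroup.mem_bot.mp hvL
    obtain ⟨j, hj, hjL⟩ := (Nat.dvd_prime_pow hq).mp (Dvd.intro_left _ h1)
    have hj0 : j ≠ 0 := by rintro rfl; exact h2 (by simpa using hjL)
    have hqpos : 0 < q := hq.pos
    rw [hjL] at h1
    have hj12 : j = 1 ∨ j = 2 := by omega
    rcases hj12 with rfl | rfl
    · have h3 : Nat.card (V ⧸ Subgroup.zpowers v) = q := by
        have h4 : Nat.card (V ⧸ Subgroup.zpowers v) * q = q * q := by
          rw [pow_one] at h1; rw [h1, pow_two]
        exact Nat.eq_of_mul_eq_mul_right hqpos h4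
      exact isCyclic_of_prime_card h3
    · have h3 : Nat.card (V ⧸ Subgroup.zpowers v) = 1 := by
        have h4 : Nat.card (V ⧸ Subgroup.zpowers v) * q ^ 2 = 1 * q ^ 2 := by
          rw [h1, one_mul]
        exact Nat.eq_of_mul_eq_mul_right (pow_pos hqpos 2) h4
      haveI : Subsingleton (V ⧸ Subgroup.zpowers v) := (Nat.card_eq_one_iff_unique.mp h3).1
      exact isCyclic_of_subsingleton
  have hfaith : ∀ g : MulAction.stabilizer X v, (∀ w : V, g • w = w) → g = 1 :=
    fun g hg => Subtype.ext (h.faithful g.1 hg)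
  have hHcop : (Nat.card (MulAction.stabilizer X v)).Coprime q :=
    Nat.Coprime.coprime_dvd_left (Subgroup.card_subgroup_dvd_card _) h.hX
  have hcomm : ∀ a b : MulAction.stabilizer X v, a * b = b * a :=
    Cfsg.Agent.Lib.Helper65.QBaer.commute_of_stab_chain hq h.hV hHcop hfaith
      (Subgroup.zpowers v) hL hcyc
  have hHnil : Group.IsNilpotent (MulAction.stabilizer X v) := by
    letI : CommGroup (MulAction.stabilizer X v) :=
      { (inferInstance : Group (MulAction.stabilizer X v)) with mul_comm := hcomm }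
    exact CommGroup.isNilpotent
  have hSnil : Group.IsNilpotent (S : Subgroup X) := S.isPGroup'.isNilpotent
  exact Cfsg.Agent.S0564.result (S : Subgroup X) (MulAction.stabilizer X v) hSnil hHnil
    (fun g => exists_mul_sylow_stab h S v g)

end Cfsg.Agent.Lib.Helper88.QBaerC11
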