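/-
helper88, project S4125 (helper75, q-Baer groups), module [C6]: in the core case the involution is
unique.  The statements of modules [C3] and [C6A] are taken as hypotheses `hC3`, `hC6A`
(plug them in at assembly time).
-/
import Mathlib
import Cfsg.Agent.Lib.Helper75.QBaer.Defs
import Cfsg.Agent.Lib.Helper51.QBaerC4
import Cfsg.Agent.Lib.Helper72.KulJ
import Cfsg.Agent.S0113
import Cfsg.Agent.S0111

set_option autoImplicit false

namespace Cfsg.Agent.Lib.Helper88.QBaerC6

open Cfsg.Agent.Lib.Helper75.QBaer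

/-- a finite cyclic group has at most one involution -/
theorem unique_invol_cyclic {G : Type*} [Group G] [Finite G] [IsCyclic G] {a b : G}
    (ha : orderOf a = 2) (hb : orderOf b = 2) : a = b := by
  classical
  haveI := Fintype.ofFinite G
  by_contra hab
  have h1 : ({1, a, b} : Finset G) ⊆ Finset.univ.filter (fun x => x ^ 2 = 1) := by
    intro x hx
    simp only [Finset.mem_insert, Finset.mem_singleton] at hx
    rw [Finset.mem_filter]
    refine ⟨Finset.mem_univ _, ?_⟩
    rcases hx with rfl | rfl | rfl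
    · exact one_pow 2
    · rw [← ha]; exact pow_orderOf_eq_one _
    · rw [← hb]; exact pow_orderOf_eq_one _
  have h2 := Finset.card_le_card h1
  have h3 : (Finset.univ.filter (fun x : G => x ^ 2 = 1)).card ≤ 2 :=
    IsCyclic.card_pow_eq_one_le (by norm_num)
  have ha1 : a ≠ 1 := by rintro rfl; simp at ha
  have hb1 : b ≠ 1 := by rintro rfl; simp at hb
  have h4 : ({1, a, b} : Finset G).card = 3 := by
    rw [Finset.card_insert_of_notMem, Finset.card_insert_of_notMem, Finset.card_singleton]
    · simpa using hab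
    · simp only [Finset.mem_insert, Finset.mem_singleton, not_or]
      exact ⟨fun h => ha1 h.symm, fun h => hb1 h.symm⟩
  omega

theorem orderOf_conj' {G : Type*} [Group G] (g y : G) : orderOf (g * y * g⁻¹) = orderOf y :=
  orderOf_injective (MulAut.conj g).toMonoidHom (MulAut.conj g).injective y

/-- a perfect group has no normal subgroup of index two -/
theorem no_index_two_of_perfect {G : Type*} [Group G] (hperf : commutator G = ⊤)
    (M : Subgroup G) [M.Normal] (hM : M.index = 2) : False := by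
  haveI : Fact (Nat.Prime 2) := ⟨Nat.prime_two⟩
  have hc : Nat.card (G ⧸ M) = 2 := hM
  haveI : IsCyclic (G ⧸ M) := isCyclic_of_prime_card hc
  have hle : commutator G ≤ M :=
    Subgroup.Normal.quotient_commutative_iff_commutator_le.mp inferInstance
  rw [hperf, top_le_iff] at hle
  rw [hle, Subgroup.index_top] at hM
  omega

variable {q : ℕ} {X V : Type*} [Group X] [Finite X] [CommGroup V] [Finite V]
  [MulDistribMulAction X V]

/-- [C6] the involution is unique (statements of [C3], [C6A] as hypotheses). -/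
theorem involution_unique_of (h : CoreHyp q X V)
    (hC3 : ∀ (S : Sylow 2 X) (z : X), orderOf z = 2 → z ∈ S → (∀ s ∈ S, s * z = z * s) →
      z ∈ Subgroup.center X)
    (hC6A : ∀ (S : Sylow 2 X) (R : Subgroup ↥(S : Subgroup X)), R.Normal →
      Nat.card R = 2 ^ 2 → (∀ r ∈ R, r ^ 2 = 1) → False)
    (z : X) (hz : orderOf z = 2)
    (hzc : z ∈ Subgroup.center X) (t : X) (ht : orderOf t = 2) : t = z := by
  haveI : Fact (Nat.Prime 2) := ⟨Nat.prime_two⟩
  -- Fact (*)
  have star : ∀ (S' : Sylow 2 X) (z' : X), orderOf z' = 2 → z' ∈ S' →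
      (∀ s ∈ S', s * z' = z' * s) → z' = z := by
    intro S' z' hz' hz'S hz'Z
    have hc' := hC3 S' z' hz' hz'S hz'Z
    have h1 : z * z' = 1 := h.faithful _ (fun v => by
      rw [mul_smul, Cfsg.Agent.Lib.Helper51.QBaer.smul_eq_inv_of_central_involution h z' hz' hc' v,
        Cfsg.Agent.Lib.Helper51.QBaer.smul_eq_inv_of_central_involution h z hz hzc, inv_inv])
    have hz2 : z * z = 1 := by rw [← pow_two, ← hz]; exact pow_orderOf_eq_one z
    calc z' = (z * z) * z' := by rw [hz2, one_mul]
      _ = z * (z * z') := by rw [mul_assoc]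
      _ = z := by rw [h1, mul_one]
  -- a Sylow 2-subgroup containing t
  have htP : IsPGroup 2 (Subgroup.zpowers t) :=
    IsPGroup.of_card (n := 1) (by rw [Nat.card_zpowers, ht, pow_one])
  obtain ⟨S, hS⟩ := htP.exists_le_sylow
  have htS : t ∈ S := hS (Subgroup.mem_zpowers t)
  -- z ∈ S
  have hzP : IsPGroup 2 (Subgroup.zpowers z) :=
    IsPGroup.of_card (n := 1) (by rw [Nat.card_zpowers, hz, pow_one])
  haveI hzN : (Subgroup.zpowers z).Normal := by
    constructor
    intro n hn g
    have hnc : n ∈ Subgroup.center X :=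
      (Subgroup.zpowers_le.mpr hzc) hn
    have := Subgroup.mem_center_iff.mp hnc g
    have h2 : g * n * g⁻¹ = n := by rw [this, mul_assoc, mul_inv_cancel, mul_one]
    rw [h2]; exact hn
  have hzS : z ∈ S := (hzP.le_sylow_of_normal S) (Subgroup.mem_zpowers z)
  obtain ⟨m, hm⟩ := S.isPGroup'.exists_card_eq
  -- the elements of ↥S
  set tS : ↥(S : Subgroup X) := ⟨t, htS⟩ with htS_def
  set zS : ↥(S : Subgroup X) := ⟨z, hzS⟩ with hzS_def
  have htS2 : orderOf tS = 2 := by rw [htS_def, Subgroup.orderOf_mk, ht]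
  have hzS2 : orderOf zS = 2 := by rw [hzS_def, Subgroup.orderOf_mk, hz]
  by_cases hcyc : IsCyclic ↥(S : Subgroup X)
  · -- cyclic: one involution
    have := unique_invol_cyclic htS2 hzS2
    exact congrArg Subtype.val this
  by_cases hcl : Group.nilpotencyClass ↥(S : Subgroup X) = m - 1
  swap
  · exfalso
    obtain ⟨R, hRn, hRc, hR2⟩ := Cfsg.Agent.Lib.Helper72.kul_exists_normal_four m hm hcyc hcl
    exact hC6A S R hRn hRc hR2
  -- noncyclic of maximal class
  have hm2 : 2 ≤ m := by
    by_contra hlt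
    push Not at hlt
    apply hcyc
    interval_cases m
    · haveI : Subsingleton ↥(S : Subgroup X) :=
        (Nat.card_eq_one_iff_unique.mp (by rw [hm, pow_zero])).1
      exact isCyclic_of_subsingleton
    · exact isCyclic_of_prime_card (p := 2) (by rw [hm, pow_one])
  rcases Nat.eq_or_lt_of_le hm2 with hm2' | hm3
  · -- m = 2: S itself is a four-group
    exfalso
    subst hm2'
    refine hC6A S ⊤ inferInstance (by rw [Subgroup.card_top, hm]) ?_
    intro r _
    have hdvd : orderOf r ∣ 2 ^ 2 := by rw [← hm]; exact orderOf_dvd_natCard r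
    obtain ⟨j, hj, hjr⟩ := (Nat.dvd_prime_pow Nat.prime_two).mp hdvd
    have hj2 : j ≠ 2 := by
      rintro rfl
      apply hcyc
      exact isCyclic_of_orderOf_eq_card r (by rw [hjr, hm])
    have hj1 : j ≤ 1 := by omega
    have : orderOf r ∣ 2 := by
      rw [hjr]
      calc 2 ^ j ∣ 2 ^ 1 := pow_dvd_pow 2 hj1
        _ = 2 := pow_one 2
    exact orderOf_dvd_iff_pow_eq_one.mp this
  -- m ≥ 3
  obtain ⟨C, hCcyc, hCi⟩ := Cfsg.Agent.S0113.result m hm3 hm hcl
  haveI := hCcyc
  haveI hCn : C.Normal := Subgroup.normal_of_index_eq_two hCi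
  -- the involution of C
  have hCcard : Nat.card C * 2 = 2 ^ m := by
    have := C.card_mul_index
    rw [hCi, hm] at this; exact this
  have h2C : 2 ∣ Nat.card C := by
    have : Nat.card C = 2 ^ (m - 1) := by
      have h3 : 2 ^ m = 2 ^ (m - 1) * 2 := by
        rw [← pow_succ]; congr 1; omega
      rw [h3] at hCcard
      exact Nat.eq_of_mul_eq_mul_right (by norm_num) hCcard
    rw [this]
    exact dvd_pow_self 2 (by omega)
  obtain ⟨zC, hzC⟩ := exists_prime_orderOf_dvd_card' (G := C) 2 h2C
  -- uniqueness of involutions in C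
  have hCuniq : ∀ c : ↥(S : Subgroup X), c ∈ C → orderOf c = 2 → c = (zC : ↥(S : Subgroup X)) := by
    intro c hc hc2
    have h1 : orderOf (⟨c, hc⟩ : C) = 2 := by rw [Subgroup.orderOf_mk, hc2]
    have := unique_invol_cyclic h1 hzC
    exact congrArg Subtype.val this
  have hzC2 : orderOf (zC : ↥(S : Subgroup X)) = 2 := by rw [Subgroup.orderOf_coe, hzC]
  -- zC is central in S
  have hzCcent : ∀ s ∈ S, s * ((zC : ↥(S : Subgroup X)) : X)
      = ((zC : ↥(S : Subgroup X)) : X) * s := by
    intro s hs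
    have h1 : (⟨s, hs⟩ : ↥(S : Subgroup X)) * (zC : ↥(S : Subgroup X))
        * (⟨s, hs⟩ : ↥(S : Subgroup X))⁻¹ ∈ C := hCn.conj_mem _ zC.2 _
    have h2 : orderOf ((⟨s, hs⟩ : ↥(S : Subgroup X)) * (zC : ↥(S : Subgroup X))
        * (⟨s, hs⟩ : ↥(S : Subgroup X))⁻¹) = 2 := by
      rw [orderOf_conj', hzC2]
    have h3 := hCuniq _ h1 h2
    have h4 : (⟨s, hs⟩ : ↥(S : Subgroup X)) * (zC : ↥(S : Subgroup X))
        = (zC : ↥(S : Subgroup X)) * (⟨s, hs⟩ : ↥(S : Subgroup X)) :=
      mul_inv_eq_iff_eq_mul.mp h3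
    exact congrArg Subtype.val h4
  have hzCz : ((zC : ↥(S : Subgroup X)) : X) = z := by
    refine star S _ ?_ (zC : ↥(S : Subgroup X)).2 hzCcent
    rw [Subgroup.orderOf_coe, hzC2]
  by_cases htC : tS ∈ C
  · have := hCuniq tS htC htS2
    have h5 : t = ((zC : ↥(S : Subgroup X)) : X) := congrArg Subtype.val this
    rw [h5, hzCz]
  -- Thompson transfer
  have hQP : C.map (S : Subgroup X).subtype ≤ (S : Subgroup X) := Subgroup.map_subtype_le C
  have hQeq : (C.map (S : Subgroup X).subtype).subgroupOf (S : Subgroup X) = C :=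
    Subgroup.comap_map_eq_self_of_injective (Subgroup.subtype_injective _) C
  have hQi : (C.map (S : Subgroup X).subtype).relIndex (S : Subgroup X) = 2 := by
    rw [Subgroup.relIndex, hQeq, hCi]
  have htQ : t ∉ C.map (S : Subgroup X).subtype := by
    rintro ⟨c, hc, hct⟩
    apply htC
    have : c = tS := Subtype.ext hct
    rw [← this]; exact hc
  rcases Cfsg.Agent.S0111.result S (C.map (S : Subgroup X).subtype) hQP hQi t ht htS htQ with
    ⟨M, hMn, hMi, -⟩ | ⟨g, c, hc, hcg⟩
  · exfalso
    haveI := hMn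
    exact no_index_two_of_perfect h.perfect M hMi
  · have hc2 : orderOf c = 2 := by
      have h6 : orderOf (c : X) = 2 := by
        have : (c : X) = g * t * g⁻¹ := hcg
        rw [this, orderOf_conj', ht]
      rw [← Subgroup.orderOf_coe]; exact h6
    have h7 := hCuniq c hc hc2
    have h8 : g * t * g⁻¹ = z := by
      have : (c : X) = g * t * g⁻¹ := hcg
      rw [← this, h7, hzCz]
    have h9 := Subgroup.mem_center_iff.mp hzc g
    -- t = g⁻¹ z g = z
    calc t = g⁻¹ * (g * t * g⁻¹) * g := by group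
      _ = g⁻¹ * z * g := by rw [h8]
      _ = g⁻¹ * (g * z) := by rw [mul_assoc, h9]
      _ = z := by group

end Cfsg.Agent.Lib.Helper88.QBaerC6
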